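import Cfsg.Agent.Lib.CoprimeFixProduct.RankTwo
import Cfsg.Agent.Lib.Coprime.Action

/-!
# The product of the centralizer orders in a coprime action of a `p`-group

* `rank_two` : Brauer–Wielandt for `C_p × C_p`, any group of order prime to `p`
* `prod_fix_le` : `(∏ x ∈ P, |C_V(x)|) ^ p ≤ |V| ^ |P| * |C_V(P)| ^ ((p - 1) * |P|)`
-/

set_option autoImplicit false
set_option linter.style.haveILetI false

namespace Cfsg.Agent.CoprimeFixProduct

universe u v

open Cfsg.Agent.FixedFormula
open scoped Pointwise IsMulCommutative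

variable {p : ℕ} [hp : Fact p.Prime]

theorem card_EE : Nat.card (EE p) = p ^ 2 := by
  rw [Nat.card_eq_fintype_card, Fintype.card_multiplicative, Fintype.card_prod, ZMod.card, pow_two]

theorem rank_two {V : Type u} [Group V] [Finite V] (hpV : ¬ p ∣ Nat.card V) (φ : EE p →* MulAut V) :
    (∏ j : ZMod p, Nat.card (fixBy φ (line (1, j)))) * Nat.card (fixBy φ (line (0, 1))) =
      Nat.card V * Nat.card (fixBy φ ⊤) ^ p := by
  classical
  letI : MulDistribMulAction (EE p) V := MulDistribMulAction.compHom V φ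
  have hcop : (Nat.card (EE p)).Coprime (Nat.card V) := by
    rw [card_EE]
    exact ((Nat.Prime.coprime_iff_not_dvd hp.out).2 hpV).pow_left 2
  have hsolvE : Group.IsSolvable (EE p) := inferInstance
  -- the factorizations agree prime by prime
  refine Nat.eq_of_factorization_eq (Nat.mul_pos (Finset.prod_pos fun j _ => Nat.card_pos) Nat.card_pos).ne'
    (Nat.mul_pos Nat.card_pos (pow_pos Nat.card_pos p)).ne' fun q => ?_
  by_cases hq : q.Prime
  swap
  · simp [Nat.factorization_eq_zero_of_not_prime _ hq]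
  haveI := Fact.mk hq
  obtain ⟨Q, hQ⟩ := Coprime.exists_smul_invariant_sylow hcop (Or.inl hsolvE) q
  have hQφ : ∀ g, ∀ a ∈ (Q : Subgroup V), φ g a ∈ (Q : Subgroup V) := fun g a ha => hQ g a ha
  haveI : Group.IsNilpotent (Q : Subgroup V) := Q.isPGroup'.isNilpotent
  have hs := rank_two_solvable (p := p) (Nat.card (Q : Subgroup V)) (V := (Q : Subgroup V)) rfl inferInstance
    (fun h => hpV (h.trans (Subgroup.card_subgroup_dvd_card _))) (restrictAct φ Q hQφ)
  -- transfer to the semidirect product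
  let Γ := SemidirectProduct V (EE p) φ
  haveI : Finite Γ := Finite.of_equiv _ SemidirectProduct.equivProd.symm
  let A : Subgroup Γ := (SemidirectProduct.inr : EE p →* Γ).range
  let K : Subgroup Γ := (SemidirectProduct.inl : V →* Γ).range
  haveI : K.Normal := by
    show (SemidirectProduct.inl : V →* Γ).range.Normal
    rw [SemidirectProduct.range_inl_eq_ker_rightHom]; infer_instance
  have hAK : A ≤ Subgroup.normalizer (K : Set Γ) := by rw [Subgroup.normalizer_eq_top]; exact le_top
  let eK : V ≃* K := MonoidHom.ofInjective SemidirectProduct.inl_injective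
  have hcopAK : (Nat.card A).Coprime (Nat.card K) := by
    rwa [← Nat.card_congr eK.toEquiv,
      ← Nat.card_congr (MonoidHom.ofInjective (f := (SemidirectProduct.inr : EE p →* Γ))
        SemidirectProduct.inr_injective).toEquiv]
  let Q' : Sylow q K := Q.mapSurjective (f := eK.toMonoidHom) eK.surjective
  have hQ' : A ≤ Subgroup.normalizer ((Q' : Subgroup K).map K.subtype : Set Γ) := by
    rintro _ ⟨a, rfl⟩
    refine Coprime.mem_normalizer_of_forall ?_
    rintro _ ⟨_, ⟨v, hv, rfl⟩, rfl⟩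
    refine ⟨eK (φ a v), ⟨_, hQφ a v hv, rfl⟩, ?_⟩
    show SemidirectProduct.inl (φ a v) =
      (SemidirectProduct.inr a : Γ) * SemidirectProduct.inl v * (SemidirectProduct.inr a)⁻¹
    rw [← map_inv, SemidirectProduct.inl_aut]
  have hcent : ∀ (B : Subgroup (EE p)) (v : V),
      (SemidirectProduct.inl v : Γ) ∈ Subgroup.centralizer
        ((B.map (SemidirectProduct.inr : EE p →* Γ)) : Set Γ) ↔ v ∈ fixBy φ B := by
    intro B v
    rw [Subgroup.mem_centralizer_iff]
    constructor
    · intro h k hk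
      have h1 := h _ (Subgroup.mem_map_of_mem _ hk)
      have h2 := SemidirectProduct.inl_aut (φ := φ) k v
      rw [map_inv, h1, mul_inv_cancel_right] at h2
      exact SemidirectProduct.inl_injective h2
    · rintro h _ ⟨k, hk, rfl⟩
      have h2 := SemidirectProduct.inl_aut (φ := φ) k v
      rw [h k hk, map_inv] at h2
      calc (SemidirectProduct.inr k : Γ) * SemidirectProduct.inl v =
          SemidirectProduct.inr k * SemidirectProduct.inl v * (SemidirectProduct.inr k)⁻¹ * SemidirectProduct.inr k := by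
            group
        _ = SemidirectProduct.inl v * SemidirectProduct.inr k := by rw [← h2]
  have hfac : ∀ B : Subgroup (EE p), (Nat.card (fixBy φ B)).factorization q =
      (Nat.card (fixBy (restrictAct φ Q hQφ) B)).factorization q := by
    intro B
    haveI : IsMulCommutative A := ⟨⟨by
      rintro ⟨_, a, rfl⟩ ⟨_, b, rfl⟩
      exact Subtype.ext (by simp only [Subgroup.coe_mul, ← map_mul, mul_comm a b])⟩⟩
    have hBA : B.map (SemidirectProduct.inr : EE p →* Γ) ≤ A := by
      rintro _ ⟨b, -, rfl⟩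
      exact ⟨b, rfl⟩
    have h := card_part hAK hcopAK Q' hQ' hBA
    have e1 : Nat.card ↥(K ⊓ Subgroup.centralizer
        ((B.map (SemidirectProduct.inr : EE p →* Γ)) : Set Γ)) = Nat.card (fixBy φ B) := by
      rw [← Subgroup.card_map_of_injective (K := fixBy φ B) (f := (SemidirectProduct.inl : V →* Γ))
        SemidirectProduct.inl_injective]
      refine congrArg (fun S : Subgroup Γ => Nat.card S) ?_
      ext x
      constructor
      · rintro ⟨⟨v, rfl⟩, hx⟩
        exact Subgroup.mem_map_of_mem _ ((hcent B v).1 hx)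
      · rintro ⟨v, hv, rfl⟩
        exact ⟨⟨v, rfl⟩, (hcent B v).2 hv⟩
    have e2 : Nat.card ↥((Q' : Subgroup K).map K.subtype ⊓ Subgroup.centralizer
        ((B.map (SemidirectProduct.inr : EE p →* Γ)) : Set Γ)) = Nat.card (fixBy (restrictAct φ Q hQφ) B) := by
      rw [fix_restrict, ← Subgroup.card_map_of_injective (K := fixBy φ B ⊓ (Q : Subgroup V))
        (f := (SemidirectProduct.inl : V →* Γ)) SemidirectProduct.inl_injective]
      refine congrArg (fun S : Subgroup Γ => Nat.card S) ?_
      ext x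
      constructor
      · rintro ⟨⟨_, ⟨v, hv, rfl⟩, rfl⟩, hx⟩
        exact ⟨v, ⟨(hcent B v).1 hx, hv⟩, rfl⟩
      · rintro ⟨v, ⟨hv, hvQ⟩, rfl⟩
        exact ⟨⟨eK v, ⟨v, hvQ, rfl⟩, rfl⟩, (hcent B v).2 hv⟩
    rw [← e1, ← e2]
    exact h
  have hpos : ∀ j ∈ (Finset.univ : Finset (ZMod p)), Nat.card (fixBy φ (line (1, j))) ≠ 0 :=
    fun j _ => Nat.card_pos.ne'
  have hs' := congrArg (fun n => Nat.factorization n q) hs
  have hQcard : (Nat.card (Q : Subgroup V)).factorization q = (Nat.card V).factorization q := by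
    rw [Q.card_eq_multiplicity, hq.factorization_pow, Finsupp.single_eq_same]
  simp only [Nat.factorization_mul (Finset.prod_pos fun j _ => Nat.card_pos).ne' Nat.card_pos.ne',
    Nat.factorization_mul Nat.card_pos.ne' (pow_pos Nat.card_pos p).ne', Nat.factorization_pow,
    Nat.factorization_prod (fun j _ => Nat.card_pos.ne'), Finsupp.add_apply, Finsupp.smul_apply,
    Finsupp.finsetSum_apply] at hs' ⊢
  simp only [hfac, ← hQcard]
  exact hs'

/-- The fixed points of a single element. -/
abbrev fix1 {P V : Type*} [Group P] [Group V] (φ : P →* MulAut V) (x : P) : Subgroup V :=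
  fixBy φ (Subgroup.zpowers x)

/-- The coset inequality. -/
theorem coset_le {P : Type v} {V : Type u} [Group P] [Group V] [Finite V] (hpV : ¬ p ∣ Nat.card V)
    (φ : P →* MulAut V) (x z : P) (hxz : Commute x z) (hz : z ^ p = 1) :
    (∏ j : ZMod p, Nat.card (fix1 φ (x * z ^ j.val))) * Nat.card (fix1 φ z) ≤
      Nat.card V * Nat.card ↥(fix1 φ x ⊓ fix1 φ z) ^ p := by
  classical
  haveI : NeZero p := ⟨hp.out.ne_zero⟩
  set W := fix1 φ (x ^ p) with hW
  set S := Subgroup.closure ({x, z} : Set P) with hS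
  have hcomm : ∀ g ∈ S, Commute g (x ^ p) := by
    intro g hg
    have hle : S ≤ Subgroup.centralizer ({x ^ p} : Set P) := by
      rw [hS, Subgroup.closure_le]
      rintro a (rfl | rfl) <;> rw [SetLike.mem_coe, Subgroup.mem_centralizer_singleton_iff]
      · exact (Commute.pow_right (Commute.refl a) p).eq
      · exact (hxz.symm.pow_right p).eq
    exact Subgroup.mem_centralizer_singleton_iff.1 (hle hg)
  have hWinv : ∀ g ∈ S, ∀ v ∈ W, φ g v ∈ W := by
    intro g hg v hv
    rw [hW, fixBy_zpowers] at hv ⊢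
    rw [← MulAut.mul_apply, ← map_mul, ← (hcomm g hg).eq, map_mul, MulAut.mul_apply, hv]
  let ψ : S →* MulAut W := restrictAct (φ.comp S.subtype) W fun g v hv => hWinv g g.2 v hv
  have hxS : x ∈ S := Subgroup.subset_closure (Or.inl rfl)
  have hzS : z ∈ S := Subgroup.subset_closure (Or.inr rfl)
  set a := ψ ⟨x, hxS⟩ with ha
  set b := ψ ⟨z, hzS⟩ with hb
  have hab : Commute a b := (show Commute (⟨x, hxS⟩ : S) ⟨z, hzS⟩ from Subtype.ext hxz.eq).map ψ
  have hap : a ^ p = 1 := by
    refine MulEquiv.ext fun w => Subtype.ext ?_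
    rw [ha, ← map_pow]
    show φ (x ^ p) w.1 = w.1
    exact (fixBy_zpowers φ _ _).1 w.2
  have hbp : b ^ p = 1 := by
    rw [hb, ← map_pow, show (⟨z, hzS⟩ : S) ^ p = 1 from Subtype.ext hz, map_one]
  have hmod : ∀ (c : MulAut W), c ^ p = 1 → ∀ i j : ℕ, (i : ZMod p) = (j : ZMod p) → c ^ i = c ^ j := by
    intro c hc i j hij
    rw [ZMod.natCast_eq_natCast_iff] at hij
    exact pow_eq_pow_iff_modEq.2 (hij.of_dvd (orderOf_dvd_of_pow_eq_one hc))
  let θ : EE p →* MulAut W :=
    { toFun := fun u => a ^ u.toAdd.1.val * b ^ u.toAdd.2.val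
      map_one' := by simp
      map_mul' := fun u w => by
        rw [hmod a hap (u * w).toAdd.1.val (u.toAdd.1.val + w.toAdd.1.val) (by simp),
          hmod b hbp (u * w).toAdd.2.val (u.toAdd.2.val + w.toAdd.2.val) (by simp), pow_add, pow_add]
        exact (hab.symm.pow_pow _ _).mul_mul_mul_comm _ _ |>.symm }
  have h1 : ∀ j : ZMod p, Nat.card (fixBy θ (line (1, j))) = Nat.card (fix1 φ (x * z ^ j.val)) := by
    intro j
    have hle : fix1 φ (x * z ^ j.val) ≤ W := by
      intro v hv
      rw [fixBy_zpowers] at hv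
      rw [hW, fixBy_zpowers]
      have h2 : (x * z ^ j.val) ^ p = x ^ p := by
        rw [(hxz.pow_right _).mul_pow, ← pow_mul, mul_comm, pow_mul, hz, one_pow, mul_one]
      rw [← h2]
      exact (fixBy_zpowers φ _ _).2 hv _ (Subgroup.npow_mem_zpowers _ _)
    refine Nat.card_congr
      { toFun := fun w => ⟨w.1.1, ?_⟩
        invFun := fun v => ⟨⟨v.1, hle v.2⟩, ?_⟩
        left_inv := fun _ => rfl
        right_inv := fun _ => rfl }
    · refine (fixBy_zpowers φ _ _).2 ?_
      have h3 := congrArg Subtype.val ((fixBy_zpowers θ _ _).1 w.2)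
      simp only [θ, MonoidHom.coe_mk, OneHom.coe_mk, toAdd_ofAdd, ha, hb, ← map_pow, ← map_mul] at h3
      rw [ZMod.val_one, pow_one] at h3
      exact h3
    · refine (fixBy_zpowers θ _ _).2 (Subtype.ext ?_)
      simp only [θ, MonoidHom.coe_mk, OneHom.coe_mk, toAdd_ofAdd, ha, hb, ← map_pow, ← map_mul]
      rw [ZMod.val_one, pow_one]
      exact (fixBy_zpowers φ _ _).1 v.2
  have h2 : Nat.card (fixBy θ (line (0, 1))) = Nat.card ↥(fix1 φ z ⊓ W) := by
    refine Nat.card_congr
      { toFun := fun w => ⟨w.1.1, ?_, w.1.2⟩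
        invFun := fun v => ⟨⟨v.1, v.2.2⟩, ?_⟩
        left_inv := fun _ => rfl
        right_inv := fun _ => rfl }
    · refine (fixBy_zpowers φ _ _).2 ?_
      have h3 := congrArg Subtype.val ((fixBy_zpowers θ _ _).1 w.2)
      simp only [θ, MonoidHom.coe_mk, OneHom.coe_mk, toAdd_ofAdd, ha, hb, ZMod.val_zero, pow_zero, one_mul,
        ZMod.val_one, pow_one] at h3
      exact h3
    · refine (fixBy_zpowers θ _ _).2 (Subtype.ext ?_)
      simp only [θ, MonoidHom.coe_mk, OneHom.coe_mk, toAdd_ofAdd, ha, hb, ZMod.val_zero, pow_zero, one_mul,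
        ZMod.val_one, pow_one]
      exact (fixBy_zpowers φ _ _).1 v.2.1
  have h3 : Nat.card (fixBy θ ⊤) = Nat.card ↥(fix1 φ x ⊓ fix1 φ z) := by
    refine Nat.card_congr
      { toFun := fun w => ⟨w.1.1, ?_, ?_⟩
        invFun := fun v => ⟨⟨v.1, ?_⟩, fun u _ => ?_⟩
        left_inv := fun _ => rfl
        right_inv := fun _ => rfl }
    · refine (fixBy_zpowers φ _ _).2 ?_
      have h4 := congrArg Subtype.val (w.2 (Multiplicative.ofAdd (1, 0)) trivial)
      simp only [θ, MonoidHom.coe_mk, OneHom.coe_mk, toAdd_ofAdd, ha, hb, ZMod.val_zero, pow_zero, mul_one,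
        ZMod.val_one, pow_one] at h4
      exact h4
    · refine (fixBy_zpowers φ _ _).2 ?_
      have h4 := congrArg Subtype.val (w.2 (Multiplicative.ofAdd (0, 1)) trivial)
      simp only [θ, MonoidHom.coe_mk, OneHom.coe_mk, toAdd_ofAdd, ha, hb, ZMod.val_zero, pow_zero, one_mul,
        ZMod.val_one, pow_one] at h4
      exact h4
    · exact (fixBy_zpowers φ _ _).2 (v.2.1 _ (Subgroup.npow_mem_zpowers x p))
    · have hvW : v.1 ∈ W := (fixBy_zpowers φ _ _).2 (v.2.1 _ (Subgroup.npow_mem_zpowers x p))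
      have e1 : a ∈ MulAction.stabilizer (MulAut W) (⟨v.1, hvW⟩ : W) := Subtype.ext ((fixBy_zpowers φ x v.1).1 v.2.1)
      have e2 : b ∈ MulAction.stabilizer (MulAut W) (⟨v.1, hvW⟩ : W) := Subtype.ext ((fixBy_zpowers φ z v.1).1 v.2.2)
      exact Subgroup.mul_mem _ (Subgroup.pow_mem _ e1 _) (Subgroup.pow_mem _ e2 _)
  have key := rank_two (V := W) (fun h => hpV (h.trans (Subgroup.card_subgroup_dvd_card W))) θ
  rw [Finset.prod_congr rfl fun j _ => h1 j, h2, h3] at key
  set U := fix1 φ z with hU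
  have h5 : Nat.card W * Nat.card U ≤ Nat.card V * Nat.card ↥(U ⊓ W) := by
    have h6 := Subgroup.relIndex_mul_relIndex ⊥ (U ⊓ W) W bot_le inf_le_right
    rw [Subgroup.relIndex_bot_left, Subgroup.relIndex_bot_left, Subgroup.inf_relIndex_right] at h6
    have h7 : U.relIndex W * Nat.card U ≤ Nat.card V := by
      rw [← Subgroup.index_mul_card U]
      exact Nat.mul_le_mul_right _ (Subgroup.relIndex_top_right U ▸ Subgroup.relIndex_le_of_le_right le_top Subgroup.index_ne_zero_of_finite)
    calc Nat.card W * Nat.card U = U.relIndex W * Nat.card U * Nat.card ↥(U ⊓ W) := by rw [← h6]; ring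
      _ ≤ Nat.card V * Nat.card ↥(U ⊓ W) := Nat.mul_le_mul_right _ h7
  refine Nat.le_of_mul_le_mul_right ?_ (Nat.card_pos (α := ↥(U ⊓ W)))
  calc _ = (∏ j : ZMod p, Nat.card (fix1 φ (x * z ^ j.val))) * Nat.card ↥(U ⊓ W) * Nat.card U := by ring
    _ = Nat.card W * Nat.card U * Nat.card ↥(fix1 φ x ⊓ U) ^ p := by rw [key]; ring
    _ ≤ Nat.card V * Nat.card ↥(U ⊓ W) * Nat.card ↥(fix1 φ x ⊓ U) ^ p := Nat.mul_le_mul_right _ h5
    _ = _ := by ring

theorem prod_fix_le : ∀ (n : ℕ) {P : Type v} {V : Type u} [Group P] [Fintype P] [Group V] [Finite V], Nat.card P = n →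
    IsPGroup p P → ¬ p ∣ Nat.card V → ∀ φ : P →* MulAut V,
    (∏ x : P, Nat.card (fix1 φ x)) ^ p ≤ Nat.card V ^ Nat.card P * Nat.card (fixBy φ ⊤) ^ ((p - 1) * Nat.card P) := by
  intro n
  induction n using Nat.strong_induction_on with
  | _ n ih =>
    intro P V _ _ _ _ hn hP hpV φ
    classical
    haveI : NeZero p := ⟨hp.out.ne_zero⟩
    rcases subsingleton_or_nontrivial P with hs | hs
    · have htop : ∀ S : Subgroup P, S = ⊤ := fun S => Subgroup.ext fun a => by
        simp [Subsingleton.elim a 1]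
      have hall : fixBy φ ⊤ = ⊤ := Subgroup.ext fun v => by
        simp [mem_fixBy, Subsingleton.elim _ (1 : P)]
      have hP1 : Nat.card P = 1 := Nat.card_eq_one_iff_unique.2 ⟨hs, ⟨1⟩⟩
      rw [Fintype.prod_subsingleton _ (1 : P), fix1, htop (Subgroup.zpowers 1), hall, Subgroup.card_top, hP1,
        pow_one, mul_one, ← pow_succ', Nat.sub_add_cancel hp.out.one_le]
    haveI := hP.center_nontrivial
    obtain ⟨z₀, hz₀⟩ : ∃ z : Subgroup.center P, orderOf z = p := by
      obtain ⟨m, hm⟩ := IsPGroup.iff_card.1 (hP.to_subgroup (Subgroup.center P))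
      refine exists_prime_orderOf_dvd_card' p (hm ▸ dvd_pow_self p ?_)
      rintro rfl
      exact absurd hm (Finite.one_lt_card (α := Subgroup.center P)).ne'
    set z : P := z₀.1 with hzdef
    have hz : ∀ x, Commute x z := fun x => Subgroup.mem_center_iff.1 z₀.2 x
    have hzord : orderOf z = p := (Subgroup.orderOf_coe z₀).trans hz₀
    set Z := Subgroup.zpowers z with hZ
    haveI : Z.Normal := ⟨fun a ha g => by
      have hg : Z ≤ Subgroup.center P := Subgroup.zpowers_le.2 z₀.2
      rw [Subgroup.mem_center_iff.1 (hg ha) g, mul_inv_cancel_right]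
      exact ha⟩
    set U := fix1 φ z with hU
    have hUinv : ∀ g : P, ∀ v ∈ U, φ g v ∈ U := fun g v hv => by
      rw [hU, fixBy_zpowers] at hv ⊢
      rw [← MulAut.mul_apply, ← map_mul, ← (hz g).eq, map_mul, MulAut.mul_apply, hv]
    let χ : P ⧸ Z →* MulAut U := QuotientGroup.lift Z (restrictAct φ U hUinv) fun k hk =>
      MulEquiv.ext fun v => Subtype.ext (v.2 k hk)
    have hχ : ∀ g : P, Nat.card (fix1 χ (g : P ⧸ Z)) = Nat.card ↥(fix1 φ g ⊓ U) := fun g =>
      Nat.card_congr
        { toFun := fun v => ⟨v.1.1, (fixBy_zpowers φ g _).2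
            (congrArg Subtype.val ((fixBy_zpowers χ (g : P ⧸ Z) v.1).1 v.2)), v.1.2⟩
          invFun := fun v => ⟨⟨v.1, v.2.2⟩, (fixBy_zpowers χ (g : P ⧸ Z) _).2
            (Subtype.ext ((fixBy_zpowers φ g _).1 v.2.1))⟩
          left_inv := fun _ => rfl
          right_inv := fun _ => rfl }
    have hχtop : Nat.card (fixBy χ ⊤) = Nat.card (fixBy φ ⊤) :=
      Nat.card_congr
        { toFun := fun v => ⟨v.1.1, fun k _ => congrArg Subtype.val (v.2 (k : P ⧸ Z) trivial)⟩
          invFun := fun v => ⟨⟨v.1, fun k _ => v.2 k trivial⟩, fun q _ => QuotientGroup.induction_on q fun k =>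
            Subtype.ext (v.2 k trivial)⟩
          left_inv := fun _ => rfl
          right_inv := fun _ => rfl }
    have hcardP : Nat.card P = p * Nat.card (P ⧸ Z) := by
      rw [Subgroup.card_eq_card_quotient_mul_card_subgroup Z, hZ, Nat.card_zpowers, hzord, mul_comm]
    haveI := Fintype.ofFinite (P ⧸ Z)
    have hm0 : 0 < Nat.card (P ⧸ Z) := Nat.card_pos
    have hIH := ih (Nat.card (P ⧸ Z)) (hn ▸ hcardP ▸ lt_mul_left hm0 hp.out.one_lt) rfl (hP.to_quotient Z)
      (fun h => hpV (h.trans (Subgroup.card_subgroup_dvd_card U))) χ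
    rw [hχtop] at hIH
    have hfib : (∏ x : P, Nat.card (fix1 χ (x : P ⧸ Z))) = (∏ q : P ⧸ Z, Nat.card (fix1 χ q)) ^ p := by
      rw [← Finset.prod_pow, ← Finset.prod_fiberwise_of_maps_to (g := fun x : P => (x : P ⧸ Z))
        (t := Finset.univ) fun x _ => Finset.mem_univ _]
      refine Finset.prod_congr rfl fun q _ => ?_
      rw [Finset.prod_congr rfl (g := fun _ => Nat.card (fix1 χ q)) fun x hx => by rw [(Finset.mem_filter.1 hx).2],
        Finset.prod_const]
      congr 1
      rw [← Fintype.card_subtype, ← Nat.card_eq_fintype_card]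
      refine ((Nat.card_congr (Equiv.subtypeEquivRight fun x => Iff.rfl)).trans
        (Nat.card_congr (QuotientGroup.preimageMkEquivSubgroupProdSet Z {q}))).trans ?_
      rw [Nat.card_prod, Nat.card_zpowers, hzord, Nat.card_eq_fintype_card, Fintype.card_unique, mul_one]
    have hall : (∏ x : P, Nat.card (fix1 φ x)) ^ p * Nat.card U ^ Nat.card P ≤
        Nat.card V ^ Nat.card P * (∏ x : P, Nat.card (fix1 χ (x : P ⧸ Z))) ^ p := by
      calc (∏ x : P, Nat.card (fix1 φ x)) ^ p * Nat.card U ^ Nat.card P =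
          ∏ x : P, ((∏ j : ZMod p, Nat.card (fix1 φ (x * z ^ j.val))) * Nat.card U) := by
            rw [Finset.prod_mul_distrib, Finset.prod_comm, Finset.prod_const (b := Nat.card U), Finset.card_univ,
              Nat.card_eq_fintype_card (α := P)]
            congr 1
            rw [Finset.prod_congr rfl fun j _ => Fintype.prod_equiv (Equiv.mulRight (z ^ j.val)) _
              (fun x => Nat.card (fix1 φ x)) fun x => rfl, Finset.prod_const, Finset.card_univ, ZMod.card]
        _ ≤ ∏ x : P, (Nat.card V * Nat.card ↥(fix1 φ x ⊓ U) ^ p) := Finset.prod_le_prod' fun x _ =>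
            coset_le hpV φ x z (hz x) (hzord ▸ pow_orderOf_eq_one z)
        _ = Nat.card V ^ Nat.card P * (∏ x : P, Nat.card (fix1 χ (x : P ⧸ Z))) ^ p := by
            rw [Finset.prod_mul_distrib, Finset.prod_const, Finset.card_univ, Nat.card_eq_fintype_card (α := P),
              Finset.prod_pow, Finset.prod_congr rfl fun x _ => (hχ x).symm]
    rw [hfib] at hall
    refine Nat.le_of_mul_le_mul_right (hall.trans ?_) (pow_pos (Nat.card_pos (α := ↥U)) (Nat.card P))
    rw [mul_assoc]
    refine Nat.mul_le_mul_left _ ?_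
    calc ((∏ q : P ⧸ Z, Nat.card (fix1 χ q)) ^ p) ^ p ≤
        (Nat.card U ^ Nat.card (P ⧸ Z) * Nat.card (fixBy φ ⊤) ^ ((p - 1) * Nat.card (P ⧸ Z))) ^ p :=
          Nat.pow_le_pow_left hIH p
      _ = _ := by rw [mul_pow, ← pow_mul, ← pow_mul, hcardP]; ring_nf

end Cfsg.Agent.CoprimeFixProduct
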