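import Cfsg.Agent.Lib.FixedFormula.Frobenius
import Cfsg.Agent.Lib.Coprime.Invariant

/-!
# Brauer's formula for a coprime action of `C_p × C_p`

* `card_part` : in a coprime action the `q`-part of `|C_K(B)|` is `|C_Q(B)|`, `Q` an invariant Sylow
* `rank_two` : `(∏ over lines |C(B)|) = |V| * |C(A)| ^ p`
-/

set_option autoImplicit false
set_option linter.style.haveILetI false

namespace Cfsg.Agent.CoprimeFixProduct

universe u

open Cfsg.Agent.FixedFormula
open scoped Pointwise IsMulCommutative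

section

variable {A V : Type*} [Group A] [Group V]

theorem fix_restrict (φ : A →* MulAut V) (N : Subgroup V) (hN : ∀ g, ∀ a ∈ N, φ g a ∈ N) (K : Subgroup A) :
    Nat.card (fixBy (restrictAct φ N hN) K) = Nat.card ↥(fixBy φ K ⊓ N) :=
  Nat.card_congr
    { toFun := fun x => ⟨x.1.1, fun k hk => congrArg Subtype.val (x.2 k hk), x.1.2⟩
      invFun := fun x => ⟨⟨x.1, x.2.2⟩, fun k hk => Subtype.ext (x.2.1 k hk)⟩
      left_inv := fun _ => rfl
      right_inv := fun _ => rfl }

theorem fixBy_zpowers (φ : A →* MulAut V) (a : A) (v : V) :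
    v ∈ fixBy φ (Subgroup.zpowers a) ↔ φ a v = v := by
  refine ⟨fun h => h a (Subgroup.mem_zpowers a), fun h => ?_⟩
  have hle : Subgroup.zpowers a ≤ (MulAction.stabilizer (MulAut V) v).comap φ := Subgroup.zpowers_le.2 h
  exact fun k hk => hle hk

end

/-- `q`-parts of centralizer orders in a coprime action of a commutative group. -/
theorem card_part {G : Type*} [Group G] [Finite G] {A K : Subgroup G} [IsMulCommutative A]
    (hAK : A ≤ Subgroup.normalizer (K : Set G)) (hcop : (Nat.card A).Coprime (Nat.card K))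
    {q : ℕ} [Fact q.Prime] (Q : Sylow q K)
    (hQ : A ≤ Subgroup.normalizer ((Q : Subgroup K).map K.subtype : Set G)) {B : Subgroup G} (hB : B ≤ A) :
    (Nat.card ↥(K ⊓ Subgroup.centralizer (B : Set G))).factorization q =
      (Nat.card ↥((Q : Subgroup K).map K.subtype ⊓ Subgroup.centralizer (B : Set G))).factorization q := by
  have hsolv : Group.IsSolvable A := inferInstance
  set C := K ⊓ Subgroup.centralizer (B : Set G) with hC
  set Q' := (Q : Subgroup K).map K.subtype with hQ'
  set D := Q' ⊓ Subgroup.centralizer (B : Set G) with hD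
  have hDC : D ≤ C := inf_le_inf_right _ (Subgroup.map_subtype_le _)
  have hAC : A ≤ Subgroup.normalizer (C : Set G) := by
    intro a ha
    refine Coprime.mem_normalizer_of_forall fun x hx => ⟨(Subgroup.mem_normalizer_iff.1 (hAK ha) x).1 hx.1, ?_⟩
    refine Subgroup.mem_centralizer_iff.2 fun b hb => ?_
    have h1 := Subgroup.mem_centralizer_iff.1 hx.2 b hb
    have hab : a * b = b * a := congrArg Subtype.val (mul_comm (⟨a, ha⟩ : A) ⟨b, hB hb⟩)
    have hab' : b * a⁻¹ = a⁻¹ * b := (Commute.inv_left (show Commute a b from hab)).eq.symm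
    calc b * (a * x * a⁻¹) = a * (b * x) * a⁻¹ := by rw [← mul_assoc, ← mul_assoc, ← hab, mul_assoc a b x]
      _ = a * (x * b) * a⁻¹ := by rw [h1]
      _ = a * x * (b * a⁻¹) := by group
      _ = a * x * a⁻¹ * b := by rw [hab', ← mul_assoc]
  have hcopC : (Nat.card A).Coprime (Nat.card C) := hcop.coprime_dvd_right (Subgroup.card_dvd_of_le inf_le_left)
  refine le_antisymm ?_ ((Nat.factorization_le_iff_dvd Nat.card_pos.ne' Nat.card_pos.ne').2
    (Subgroup.card_dvd_of_le hDC) q)
  obtain ⟨T, hT⟩ := Coprime.exists_invariant_sylow hAC hcopC (Or.inl hsolv) q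
  set T' := (T : Subgroup C).map C.subtype with hT'
  obtain ⟨Q₁, hTQ₁, hQ₁⟩ := Coprime.exists_invariant_sylow_ge hAK hcop (Or.inl hsolv)
    (show T' ≤ K from (Subgroup.map_subtype_le _).trans inf_le_left) (T.isPGroup'.map C.subtype) hT
  obtain ⟨c, hc, rfl⟩ := Coprime.invariant_sylow_conj hAK hcop (Or.inl hsolv) Q Q₁ hQ hQ₁
  rw [Coprime.map_subtype_smul] at hTQ₁
  have hTD : T' ≤ MulAut.conj (c : G) • D := by
    intro x hx
    rw [Coprime.mem_conj]
    refine ⟨Coprime.mem_conj.1 (hTQ₁ hx), Subgroup.mem_centralizer_iff.2 fun b hb => ?_⟩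
    have h1 := Subgroup.mem_centralizer_iff.1 ((Subgroup.map_subtype_le _ hx : x ∈ C).2) b hb
    have h2 := Subgroup.mem_centralizer_iff.1 hc b (hB hb)
    calc b * ((c : G)⁻¹ * x * c) = (c : G)⁻¹ * ((c : G) * b) * ((c : G)⁻¹ * x * c) := by group
      _ = (c : G)⁻¹ * (b * c) * ((c : G)⁻¹ * x * c) := by rw [h2]
      _ = (c : G)⁻¹ * (b * x) * c := by group
      _ = (c : G)⁻¹ * (x * b) * c := by rw [h1]
      _ = (c : G)⁻¹ * x * (b * c) := by group
      _ = (c : G)⁻¹ * x * ((c : G) * b) := by rw [h2]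
      _ = (c : G)⁻¹ * x * c * b := by group
  have hcard : Nat.card T' = q ^ (Nat.card C).factorization q := by
    rw [hT', Subgroup.card_map_of_injective C.subtype_injective]
    exact T.card_eq_multiplicity
  have h3 := Subgroup.card_dvd_of_le hTD
  rw [Coprime.card_conj, hcard] at h3
  exact (Fact.out : q.Prime).pow_dvd_iff_le_factorization Nat.card_pos.ne' |>.1 h3

variable {p : ℕ} [hp : Fact p.Prime]

/-- `C_p × C_p`. -/
abbrev EE (p : ℕ) := Multiplicative (ZMod p × ZMod p)

/-- The line through `w`. -/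
def line (w : ZMod p × ZMod p) : Subgroup (EE p) := Subgroup.zpowers (Multiplicative.ofAdd w)

theorem sum_line [NeZero p] {R : Type*} [AddCommMonoid R] (T : EE p → R) {w : ZMod p × ZMod p} (hw : w ≠ 0)
    [Fintype (line w)] : ∑ k : line w, T k = ∑ a : ZMod p, T (Multiplicative.ofAdd (a • w)) := by
  refine (Fintype.sum_bijective (fun a : ZMod p => (⟨Multiplicative.ofAdd (a • w), a.val, ?_⟩ : line w)) ?_ _ _
    fun a => rfl).symm
  · show Multiplicative.ofAdd w ^ ((a.val : ℕ) : ℤ) = _
    rw [zpow_natCast, ← ofAdd_nsmul, ← Nat.cast_smul_eq_nsmul (ZMod p), ZMod.natCast_zmod_val]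
  · refine ⟨fun a b h => ?_, ?_⟩
    · have := Multiplicative.ofAdd.injective (congrArg Subtype.val h)
      exact smul_left_injective (ZMod p) hw this
    · rintro ⟨x, k, rfl⟩
      refine ⟨(k : ZMod p), Subtype.ext ?_⟩
      show Multiplicative.ofAdd ((k : ZMod p) • w) = Multiplicative.ofAdd w ^ k
      rw [Int.cast_smul_eq_zsmul, ofAdd_zsmul]

theorem card_line [NeZero p] {w : ZMod p × ZMod p} (hw : w ≠ 0) : Nat.card (line w) = p := by
  rw [line, Nat.card_zpowers]
  refine orderOf_eq_prime ?_ fun h => hw (Multiplicative.ofAdd.injective h)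
  rw [← ofAdd_nsmul, ← Nat.cast_smul_eq_nsmul (ZMod p), ZMod.natCast_self, zero_smul, ofAdd_zero]

theorem sum_lines [NeZero p] {R : Type*} [CommRing R] (T : EE p → R) :
    ∑ g : EE p, T g + (p : R) * T 1 =
      (∑ j : ZMod p, ∑ a : ZMod p, T (Multiplicative.ofAdd (a • ((1, j) : ZMod p × ZMod p)))) +
        ∑ a : ZMod p, T (Multiplicative.ofAdd (a • ((0, 1) : ZMod p × ZMod p))) := by
  classical
  let T' : ZMod p → ZMod p → R := fun a b => T (Multiplicative.ofAdd (a, b))
  have h1 : ∑ g : EE p, T g = ∑ a : ZMod p, ∑ b : ZMod p, T' a b := by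
    rw [← Fintype.sum_prod_type']
    exact (Fintype.sum_equiv Multiplicative.ofAdd _ _ fun x => rfl).symm
  have hA : ∀ a j : ZMod p, T (Multiplicative.ofAdd (a • ((1, j) : ZMod p × ZMod p))) = T' a (a * j) := fun a j => by
    simp [T']
  have hB : ∀ a : ZMod p, T (Multiplicative.ofAdd (a • ((0, 1) : ZMod p × ZMod p))) = T' 0 a := fun a => by
    simp [T']
  simp only [hA, hB]
  rw [h1, Finset.sum_comm (f := fun j a => T' a (a * j)),
    ← Finset.add_sum_erase Finset.univ (fun a => ∑ b, T' a b) (Finset.mem_univ 0),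
    ← Finset.add_sum_erase Finset.univ (fun a => ∑ j, T' a (a * j)) (Finset.mem_univ 0)]
  have h2 : ∀ a ∈ Finset.univ.erase (0 : ZMod p), ∑ j, T' a (a * j) = ∑ b, T' a b := fun a ha =>
    Fintype.sum_equiv (Equiv.mulLeft₀ a (Finset.mem_erase.1 ha).1) _ _ fun j => rfl
  rw [Finset.sum_congr rfl h2, show ∑ j : ZMod p, T' 0 (0 * j) = (p : R) * T 1 by
    simp [T', Finset.sum_const, ZMod.card, ← Prod.zero_eq_mk]]
  ring

theorem rank_two_elementary {V : Type*} [CommGroup V] [Finite V] {q : ℕ} [hq : Fact q.Prime]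
    (hV : ∀ v : V, v ^ q = 1) (hpq : p ≠ q) (φ : EE p →* MulAut V) :
    (∏ j : ZMod p, Nat.card (fixBy φ (line (1, j)))) * Nat.card (fixBy φ (line (0, 1))) =
      Nat.card V * Nat.card (fixBy φ ⊤) ^ p := by
  classical
  letI : Module (ZMod q) (Additive V) := AddCommGroup.zmodModule (n := q) fun a => hV a.toMul
  let L : EE p →* (Additive V →ₗ[ZMod q] Additive V) :=
    { toFun := fun g => ((φ g).toMonoidHom.toAdditive).toZModLinearMap q
      map_one' := LinearMap.ext fun a => by
        show Additive.ofMul (φ 1 a.toMul) = a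
        rw [map_one]; rfl
      map_mul' := fun g h => LinearMap.ext fun a => by
        show Additive.ofMul (φ (g * h) a.toMul) = Additive.ofMul (φ g (φ h a.toMul))
        rw [map_mul]; rfl }
  set n := Module.finrank (ZMod q) (Additive V)
  let b := Module.finBasis (ZMod q) (Additive V)
  let ρ : EE p →* (Matrix (Fin n) (Fin n) (ZMod q))ˣ :=
    (Units.map ((LinearMap.toMatrixAlgEquiv b).toAlgHom.toRingHom.toMonoidHom)).comp L.toHomUnits
  have hρ : ∀ g (a : Additive V),
      Matrix.mulVec (ρ g : Matrix (Fin n) (Fin n) (ZMod q)) (b.repr a) = b.repr (L g a) :=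
    fun g a => LinearMap.toMatrix_mulVec_repr b b (L g) a
  have hfix : ∀ K : Subgroup (EE p), Nat.card (fixBy φ K) =
      Nat.card {v : Fin n → ZMod q // ∀ k ∈ K, Matrix.mulVec (ρ k : Matrix (Fin n) (Fin n) (ZMod q)) v = v} :=
    fun K => by
    refine Nat.card_congr (Equiv.subtypeEquiv (Additive.ofMul.trans b.equivFun.toEquiv) fun a => ?_)
    refine forall₂_congr fun k _ => ?_
    show φ k a = a ↔ Matrix.mulVec (ρ k : Matrix (Fin n) (Fin n) (ZMod q)) (b.repr (Additive.ofMul a)) =
      b.repr (Additive.ofMul a)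
    rw [hρ]
    refine ⟨fun e => ?_, fun e => ?_⟩
    · rw [show L k (Additive.ofMul a) = Additive.ofMul a from congrArg Additive.ofMul e]
    · exact Additive.ofMul.injective (b.repr.injective (DFunLike.coe_injective e))
  have hcard : Nat.card V = q ^ n := by
    rw [Nat.card_congr (Additive.ofMul (α := V)), Module.natCard_eq_pow_finrank (K := ZMod q), Nat.card_zmod]
  have hpc : p.Coprime q := (Nat.coprime_primes hp.out hq.out).2 hpq
  have hEcard : Nat.card (EE p) = p * p := by
    rw [Nat.card_eq_fintype_card, Fintype.card_multiplicative, Fintype.card_prod, ZMod.card]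
  have hG : (Nat.card (EE p)).Coprime q := hEcard ▸ hpc.mul_left hpc
  set N := (p + 1) * n + 1 with hN'
  have hN : N ≠ 0 := Nat.succ_ne_zero _
  obtain ⟨T, -, hT1, hT⟩ := exists_trace_fun hN hG ρ
  choose r hr hrc hrT using hT
  have hu : IsUnit ((p : ℕ) : ZMod (q ^ N)) := (ZMod.isUnit_iff_coprime _ _).2 (hpc.pow_right N)
  have hne : ∀ j : ZMod p, ((1, j) : ZMod p × ZMod p) ≠ 0 := fun j h => one_ne_zero (congrArg Prod.fst h)
  have hne' : ((0, 1) : ZMod p × ZMod p) ≠ 0 := fun h => one_ne_zero (congrArg Prod.snd h)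
  have hline : ∀ w : ZMod p × ZMod p, w ≠ 0 →
      ∑ a : ZMod p, T (Multiplicative.ofAdd (a • w)) = (p : ZMod (q ^ N)) * r (line w) := fun w hw => by
    rw [← sum_line T hw, hrT, card_line hw]
  have htop : ∑ g : EE p, T g = (Nat.card (EE p) : ZMod (q ^ N)) * r ⊤ := by
    rw [← Nat.card_congr Subgroup.topEquiv.toEquiv, ← hrT]
    exact (Fintype.sum_equiv Subgroup.topEquiv.toEquiv _ _ fun k => rfl).symm
  have hs := sum_lines T
  rw [htop, hEcard, hT1, hline _ hne', Finset.sum_congr rfl fun j _ => hline _ (hne j), ← Finset.mul_sum,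
    ← mul_add, Nat.cast_mul, mul_assoc, ← mul_add] at hs
  have key := hu.mul_left_cancel hs
  rw [← Nat.cast_mul, ← Nat.cast_add, ← Nat.cast_sum, ← Nat.cast_add] at key
  have hlt : ∀ x, x ≤ (p + 1) * n → x < q ^ N := fun x hx =>
    lt_of_le_of_lt hx ((Nat.lt_pow_self hq.out.one_lt).trans' (by omega))
  have h1 : (∑ j : ZMod p, r (line (1, j))) ≤ p * n := by
    refine (Finset.sum_le_sum fun j _ => hr _).trans_eq ?_
    rw [Finset.sum_const, Finset.card_univ, ZMod.card, smul_eq_mul]
  have h2 := hr (line (0, 1))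
  have h3 := Nat.mul_le_mul_left p (hr ⊤)
  have hexp : (p + 1) * n = p * n + n := Nat.succ_mul p n
  have heq : p * r ⊤ + n = (∑ j : ZMod p, r (line (1, j))) + r (line (0, 1)) := by
    have h4 := congrArg ZMod.val key
    rwa [ZMod.val_natCast, ZMod.val_natCast, Nat.mod_eq_of_lt (hlt _ (by omega)),
      Nat.mod_eq_of_lt (hlt _ (by omega))] at h4
  simp only [hfix, hrc, hcard]
  rw [Finset.prod_pow_eq_pow_sum, ← pow_mul, ← pow_add, ← pow_add, ← heq]
  ring_nf

theorem rank_two_solvable : ∀ (m : ℕ) {V : Type u} [Group V] [Finite V], Nat.card V = m → Group.IsSolvable V →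
    ¬ p ∣ Nat.card V → ∀ φ : EE p →* MulAut V,
    (∏ j : ZMod p, Nat.card (fixBy φ (line (1, j)))) * Nat.card (fixBy φ (line (0, 1))) =
      Nat.card V * Nat.card (fixBy φ ⊤) ^ p := by
  intro m
  induction m using Nat.strong_induction_on with
  | _ m ih =>
    intro V _ _ hm hsolv hpV φ
    rcases subsingleton_or_nontrivial V with hV | hV
    · have hone : ∀ S : Subgroup V, Nat.card S = 1 := fun S =>
        Nat.card_eq_one_iff_unique.mpr ⟨inferInstance, ⟨1⟩⟩
      have hV1 : Nat.card V = 1 := Nat.card_eq_one_iff_unique.mpr ⟨hV, ⟨1⟩⟩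
      simp [hone, hV1]
    obtain ⟨q, N, hqp, hNne, hNchar, hNp, hNc⟩ := exists_elementary hsolv
    haveI := hNchar
    haveI := Fact.mk hqp
    have hN : ∀ g, ∀ a ∈ N, φ g a ∈ N := fun g a ha =>
      Subgroup.characteristic_iff_map_le.mp hNchar (φ g) ⟨a, ha, rfl⟩
    haveI : IsMulCommutative N := ⟨⟨fun a b => Subtype.ext (hNc a a.2 b b.2)⟩⟩
    have hdvd : Nat.card N ∣ Nat.card V := Subgroup.card_subgroup_dvd_card N
    have hpq : p ≠ q := by
      haveI : Nontrivial N := (Subgroup.nontrivial_iff_ne_bot N).mpr hNne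
      obtain ⟨x, hx⟩ := exists_ne (1 : N)
      have hx' : orderOf x = q := orderOf_eq_prime (Subtype.ext (hNp x x.2)) hx
      rintro rfl
      exact hpV ((hx' ▸ orderOf_dvd_natCard x : p ∣ Nat.card N).trans hdvd)
    have hcopN : ∀ K : Subgroup (EE p), (Nat.card N).Coprime (Nat.card K) := fun K => by
      refine ((Nat.Prime.coprime_iff_not_dvd hp.out).2 fun h => hpV (h.trans hdvd)).symm.pow_right 2
        |>.coprime_dvd_right ?_
      have := Subgroup.card_subgroup_dvd_card K
      rwa [Nat.card_eq_fintype_card (α := EE p), Fintype.card_multiplicative, Fintype.card_prod, ZMod.card,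
        ← pow_two] at this
    have hq : ∀ K : Subgroup (EE p), Nat.card (fixBy φ K) =
        Nat.card (fixBy (restrictAct φ N hN) K) * Nat.card (fixBy (quotAct φ N hN) K) := fun K =>
      card_fixBy_quot φ N hN K (hcopN K)
    have hlt : Nat.card (V ⧸ N) < Nat.card V := by
      rw [Subgroup.card_eq_card_quotient_mul_card_subgroup N]
      exact lt_mul_of_one_lt_right Nat.card_pos ((Subgroup.one_lt_card_iff_ne_bot N).mpr hNne)
    have h1 := ih _ (hm ▸ hlt) rfl (inferInstance : Group.IsSolvable (V ⧸ N))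
      (fun h => hpV (h.trans (Subgroup.card_quotient_dvd_card N))) (quotAct φ N hN)
    have h2 := rank_two_elementary (V := N) (fun a => Subtype.ext (hNp a a.2)) hpq (restrictAct φ N hN)
    simp only [hq, Finset.prod_mul_distrib]
    rw [Subgroup.card_eq_card_quotient_mul_card_subgroup N, mul_pow]
    linear_combination congrArg₂ (· * ·) h2 h1

end Cfsg.Agent.CoprimeFixProduct
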